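import Cfsg.Agent.QTKE.PushUp.Abstract
import Cfsg.Agent.LocalCStar.GFacts

/-!
A linear piece outside `C*` as a piece over the Baumann subgroup, for the prime two.
-/

set_option autoImplicit false
set_option linter.unusedSectionVars false
set_option linter.style.haveILetI false

namespace Cfsg.Lib.PushUpOrbit

open Subgroup Matrix Cfsg.Lib.BlockPair Cfsg.Lib.LocalCStar
open scoped commutatorElement MatrixGroups

universe u

variable {G : Type u} [Group G] [Finite G] {T : Sylow 2 G}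

theorem uS_apply {F : Type} [Field F] (x : F) :
    (Cfsg.Lib.Known.AutPSL2.uS x : Matrix (Fin 2) (Fin 2) F) 0 1 = x := by
  simp [Cfsg.Lib.Known.AutPSL2.coe_uS]

theorem piece_of_gpiece (x : GPiece T) :
    ∃ q, Piece (Cfsg.baumannSubgroupOf 2 (T : Subgroup G)) x.E (qOf 2 x.E) q := by
  obtain ⟨F, iF, iFt, n, hn, hF, ρ, l, hker, hsurj, hup, hups, hadd, hls, hlk, heq⟩ := x.nat
  set B := Cfsg.baumannSubgroupOf 2 (T : Subgroup G) with hB
  have hUW : qOf 2 x.E = wOf 2 x.E := (top_kind x.isBlk).resolve_right fun h => absurd h.1 (by norm_num)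
  have hcomm : ∀ a ∈ qOf 2 x.E, ∀ b ∈ qOf 2 x.E, a * b = b * a := fun a ha b hb =>
    (wOf_comm x.E (hUW ▸ ha) (hUW ▸ hb)).eq
  have hsq : ∀ a ∈ qOf 2 x.E, a * a = 1 := fun a ha => by
    rw [← pow_two]; exact wOf_pow x.E (hUW ▸ ha)
  have hSE : B ≤ normalizer (x.E : Set G) := Cfsg.Lib.BlockBasic.baumann_le_normalizer x.shape.2.1
  have hSU : B ≤ normalizer (qOf 2 x.E : Set G) := hSE.trans (Cfsg.Lib.Large.normalizer_pCoreOf_le x.E)
  have hEH := x.E_le_H
  haveI hnr : (Cfsg.pResidual 2 ↥x.H).Normal := Cfsg.Lib.PushBlocks.res_normal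
  haveI hnc : (Cfsg.pCore 2 ↥x.H).Normal := Cfsg.Lib.Components.pCore_normal' 2
  set C := (Cfsg.pCore 2 ↥x.H).map x.H.subtype
  have hHE : x.H ≤ normalizer (x.E : Set G) := by
    have hres : x.E.subgroupOf x.H = Cfsg.pResidual 2 ↥x.H := by
      rw [x.res, subgroupOf, comap_map_eq_self_of_injective x.H.subtype_injective]
    exact (normal_subgroupOf_iff_le_normalizer hEH).1 (hres ▸ hnr)
  have hHC : x.H ≤ normalizer (C : Set G) := by
    refine (normal_subgroupOf_iff_le_normalizer (map_subtype_le _)).1 ?_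
    show ((Cfsg.pCore 2 ↥x.H).map x.H.subtype).comap x.H.subtype |>.Normal
    rw [comap_map_eq_self_of_injective x.H.subtype_injective]
    infer_instance
  have hCp : IsPGroup 2 C := (Cfsg.Lib.Components.isPGroup_pCore (G := ↥x.H) 2).map _
  have hCU : ∀ k ∈ C, ∀ e ∈ x.E, ⁅e, k⁆ ∈ qOf 2 x.E := by
    intro k hk e he
    refine le_qOf (K := C ⊓ x.E) (hCp.to_le inf_le_left) inf_le_right (fun g hg => ?_) (mem_inf.2 ⟨?_, ?_⟩)
    · rw [mem_normalizer_iff]
      intro y
      rw [mem_inf, mem_inf]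
      exact and_congr (mem_normalizer_iff.1 (hHC (hEH hg)) y) (mem_normalizer_iff.1 (le_normalizer hg) y)
    · rw [commutatorElement_def]
      exact mul_mem ((mem_normalizer_iff.1 (hHC (hEH he)) k).1 hk) (inv_mem hk)
    · rw [commutatorElement_def, mul_assoc, mul_assoc, ← mul_assoc k]
      exact mul_mem he ((mem_normalizer_iff.1 (hHE (map_subtype_le _ hk)) _).1 (inv_mem he))
  have hmoved : ⁅qOf 2 x.E, x.E⁆ = qOf 2 x.E := x.shape.2.2.1
  -- the core centralises the module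
  have hCc : C ≤ centralizer (qOf 2 x.E : Set G) := by
    intro k hk
    suffices hle : ⁅qOf 2 x.E, x.E⁆ ≤ centralizer ({k} : Set G) from
      mem_centralizer_iff.2 fun u hu => (mem_centralizer_iff.1 (hle (hmoved.ge hu)) k rfl).symm
    rw [commutator_le]
    intro u hu e he
    refine mem_centralizer_iff.2 fun y hy => ?_
    rw [Set.mem_singleton_iff.1 hy]
    set f := ⁅u, k⁆ with hf
    have hfc : ∀ a ∈ x.H, a * f = f * a := fun a ha => x.cen k hk u hu a ha
    have e1 : k * u * k⁻¹ = f⁻¹ * u := by rw [hf, commutatorElement_def]; group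
    set v := ⁅k, e⁆ with hv'
    have hv : v ∈ qOf 2 x.E := by
      rw [hv', ← commutatorElement_inv]; exact inv_mem (hCU k hk e he)
    have e2 : k * e * k⁻¹ = v * e := by rw [hv', commutatorElement_def]; group
    set u' := e * u * e⁻¹ with hu'def
    have hu' : u' ∈ qOf 2 x.E := (mem_normalizer_iff.1 (normal_qOf x.E he) u).1 hu
    have e3 : k * u' * k⁻¹ = f⁻¹ * u' := by
      calc k * u' * k⁻¹ = (k * e * k⁻¹) * (k * u * k⁻¹) * (k * e * k⁻¹)⁻¹ := by rw [hu'def]; group
        _ = v * (e * f⁻¹) * u * e⁻¹ * v⁻¹ := by rw [e1, e2]; group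
        _ = v * (f⁻¹ * e) * u * e⁻¹ * v⁻¹ := by
            rw [(Commute.inv_right (show Commute e f from hfc e (hEH he))).eq]
        _ = (v * f⁻¹) * u' * v⁻¹ := by rw [hu'def]; group
        _ = (f⁻¹ * v) * u' * v⁻¹ := by
            rw [(Commute.inv_right (show Commute v f from hfc v (hEH (qOf_le _ hv)))).eq]
        _ = f⁻¹ * (u' * v) * v⁻¹ := by rw [hcomm u' hu' v hv]; group
        _ = f⁻¹ * u' := by group
    have hc : ⁅u, e⁆ = u * u'⁻¹ := by rw [hu'def, commutatorElement_def]; group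
    rw [hc]
    have hmem : u * u'⁻¹ ∈ x.H := hEH (qOf_le _ (mul_mem hu (inv_mem hu')))
    have e4 : k * (u * u'⁻¹) * k⁻¹ = u * u'⁻¹ := by
      calc k * (u * u'⁻¹) * k⁻¹ = (k * u * k⁻¹) * (k * u' * k⁻¹)⁻¹ := by group
        _ = f⁻¹ * ((u * u'⁻¹) * f) := by rw [e1, e3]; group
        _ = u * u'⁻¹ := by rw [hfc _ hmem, inv_mul_cancel_left]
    exact mul_inv_eq_iff_eq_mul.1 e4
  -- the action of the Baumann subgroup
  have hρB : ∀ b ∈ B, ∀ hb : b ∈ x.H, ∃ a, ρ ⟨b, hb⟩ = Cfsg.Lib.Known.AutPSL2.uS a := fun b hb hbH =>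
    hup ⟨b, hbH⟩ hb
  have hact : ∀ b, ∀ hb : b ∈ B, ∀ a, ρ ⟨b, x.hB hb⟩ = Cfsg.Lib.Known.AutPSL2.uS a →
      ∀ u ∈ qOf 2 x.E, (l (b * u * b⁻¹)) 0 = l u 0 + a * l u 1 ∧ (l (b * u * b⁻¹)) 1 = l u 1 := by
    intro b hb a ha u hu
    have h1 := heq ⟨b, x.hB hb⟩ u (hUW.le hu)
    rw [ha] at h1
    simp only at h1
    rw [h1]
    constructor <;> simp [Cfsg.Lib.Known.AutPSL2.coe_uS, Matrix.mulVec, dotProduct, Fin.sum_univ_two]
  have hl1 : l 1 = 0 := (hlk 1 (one_mem _)).2 (one_mem _)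
  have hkerB : ∀ b ∈ B, b ∈ centralizer (qOf 2 x.E : Set G) → ∀ hb : b ∈ x.H, ρ ⟨b, hb⟩ = 1 := by
    intro b hb hc hbH
    obtain ⟨a, ha⟩ := hρB b hb hbH
    obtain ⟨u, hu, hul⟩ := hls ![0, 1]
    have hu' : u ∈ qOf 2 x.E := hUW.ge hu
    have h2 := (hact b hb a ha u hu').1
    rw [show b * u * b⁻¹ = u from mul_inv_eq_iff_eq_mul.2 (mem_centralizer_iff.1 hc u hu').symm, hul] at h2
    simp only [Matrix.cons_val_zero, Matrix.cons_val_one, mul_one, zero_add] at h2
    rw [ha, ← h2, Cfsg.Lib.PushBlocks.uS_zero]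
  have hcoreρ : ∀ b ∈ B, ∀ hb : b ∈ x.H, ρ ⟨b, hb⟩ = 1 → b ∈ C := fun b _ hb h1 =>
    ⟨⟨b, hb⟩, hker.le (MonoidHom.mem_ker.2 h1), rfl⟩
  let fS : ↥B →* Multiplicative F :=
    { toFun := fun b => Multiplicative.ofAdd ((ρ ⟨b, x.hB b.2⟩ : Matrix (Fin 2) (Fin 2) F) 0 1)
      map_one' := by
        rw [show (⟨((1 : ↥B) : G), x.hB (1 : ↥B).2⟩ : ↥x.H) = 1 from rfl, map_one]
        simp
      map_mul' := fun b c => by
        obtain ⟨i, hi⟩ := hρB b b.2 (x.hB b.2)
        obtain ⟨j, hj⟩ := hρB c c.2 (x.hB c.2)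
        rw [show (⟨((b * c : ↥B) : G), x.hB (b * c).2⟩ : ↥x.H) = ⟨b, x.hB b.2⟩ * ⟨c, x.hB c.2⟩ from rfl,
          map_mul, hi, hj, ← Cfsg.Lib.Known.AutPSL2.uS_add, uS_apply, uS_apply, uS_apply, ofAdd_add] }
  have hfS : ∀ b : ↥B, fS b = 1 ↔ (b : G) ∈ B ⊓ centralizer (qOf 2 x.E : Set G) := by
    intro b
    obtain ⟨i, hi⟩ := hρB b b.2 (x.hB b.2)
    have h0 : fS b = Multiplicative.ofAdd i := by
      show Multiplicative.ofAdd _ = _
      rw [hi, uS_apply]
    rw [h0, ofAdd_eq_one]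
    constructor
    · intro hi0
      refine ⟨b.2, hCc (hcoreρ b b.2 (x.hB b.2) ?_)⟩
      rw [hi, hi0, Cfsg.Lib.PushBlocks.uS_zero]
    · intro hb
      have h2 := hkerB b b.2 hb.2 (x.hB b.2)
      rw [hi, ← Cfsg.Lib.PushBlocks.uS_zero] at h2
      exact Cfsg.Lib.PushBlocks.uS_inj h2
  have hidx : (B ⊓ centralizer (qOf 2 x.E : Set G)).relIndex B = Nat.card (Multiplicative F) := by
    refine relIndex_of_surjective fS (fun y => ?_) hfS
    obtain ⟨b, hb, hby⟩ := hups y.toAdd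
    refine ⟨⟨b, hb⟩, ?_⟩
    show Multiplicative.ofAdd ((ρ ⟨b, x.hB hb⟩ : Matrix (Fin 2) (Fin 2) F) 0 1) = y
    rw [hby, uS_apply, ofAdd_toAdd]
  let fU : ↥(qOf 2 x.E) →* Multiplicative F :=
    { toFun := fun u => Multiplicative.ofAdd (l u 1)
      map_one' := by rw [OneMemClass.coe_one, hl1]; rfl
      map_mul' := fun u w => by
        rw [Subgroup.coe_mul, hadd u (hUW.le u.2) w (hUW.le w.2), Pi.add_apply, ofAdd_add] }
  set P := fU.ker.map (qOf 2 x.E).subtype with hP
  refine ⟨Nat.card (Multiplicative F), ?_⟩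
  exact
    { U_le_S := x.Q_le_B
      U_le_E := qOf_le x.E
      comm := hcomm
      sq := hsq
      E_normU := normal_qOf x.E
      S_normE := hSE
      S_normU := hSU
      moved := hmoved
      comm_S := x.shape.2.1
      notle := fun hle => x.notle (hle.trans (x.Q_le_B.trans (inf_le_left.trans T_le_cStar')))
      core := fun s hs hc e he => hCU s (hcoreρ s hs (x.hB hs) (hkerB s hs hc (x.hB hs))) e he
      radical := fun M hM hp hn => le_qOf hp hM hn
      irr := by
        intro M hMU hn hnc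
        obtain ⟨hEW, hirr, hne⟩ := Cfsg.Lib.BlockBasic.block_module x.block (wOf 2 x.E) (zOf 2 x.E) rfl rfl
        rw [hUW] at hMU ⊢
        have hEZ : x.E ≤ normalizer (zOf 2 x.E : Set G) := fun e he => by
          rw [mem_normalizer_iff]
          intro y
          rw [mem_inf, mem_inf]
          exact and_congr (mem_normalizer_iff.1 (hEW he) y)
            (mem_normalizer_iff.1 (Cfsg.Lib.PushUpOrbit.le_normalizer_centralizer x.E he) y)
        rcases hirr (M ⊔ zOf 2 x.E) le_sup_right (sup_le hMU inf_le_left) (fun e he u hu => by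
          have h : M ⊔ zOf 2 x.E ≤ (M ⊔ zOf 2 x.E).comap (MulAut.conj e).toMonoidHom :=
            sup_le (fun a ha => mem_sup_left ((mem_normalizer_iff.1 (hn he) a).1 ha))
              fun a ha => mem_sup_right ((mem_normalizer_iff.1 (hEZ he) a).1 ha)
          exact h hu) with h | h
        · exact absurd ((le_sup_left.trans h.le).trans inf_le_right) hnc
        · exact h.ge
      gen := by
        conv_lhs => rw [← Cfsg.Lib.BlockBasic.closure_coprime_elements (res x.isBlk)]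
        exact closure_mono fun g hg => ⟨hg.1, Nat.coprime_two_right.1 hg.2⟩
      idx := hidx
      line := by
        refine ⟨P, map_subtype_le _, ?_, ?_⟩
        · refine relIndex_of_surjective fU (fun y => ?_) fun u => ?_
          · obtain ⟨u, hu, hul⟩ := hls ![0, y.toAdd]
            refine ⟨⟨u, hUW ▸ hu⟩, ?_⟩
            show Multiplicative.ofAdd (l u 1) = y
            rw [hul]; simp
          · rw [hP]
            exact ⟨fun h => ⟨u, h, rfl⟩, fun ⟨v, hv, hvu⟩ => Subtype.ext hvu ▸ hv⟩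
        · intro u hu w hw hc
          obtain ⟨a, ha⟩ := hρB w hw (x.hB hw)
          have hw1 : w * u * w⁻¹ ∈ qOf 2 x.E := (mem_normalizer_iff.1 (hSU hw) u).1 hu
          have hmem : ⁅u, w⁆ ∈ qOf 2 x.E := by
            rw [commutatorElement_def, mul_assoc, mul_assoc, ← mul_assoc w]
            exact mul_mem hu ((mem_normalizer_iff.1 (hSU hw) _).1 (inv_mem hu))
          have h3 : ⁅u, w⁆ = u * (w * u * w⁻¹) := by
            rw [commutatorElement_def, inv_eq_of_mul_eq_one_right (hsq u hu)]; group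
          have h4 := (hlk _ (hUW.le hmem)).2 hc
          rw [h3, hadd u (hUW.le hu) _ (hUW.le hw1)] at h4
          have h5 := congrFun h4 0
          rw [Pi.add_apply, Pi.zero_apply, (hact w hw a ha u hu).1, ← add_assoc] at h5
          have h6 : l u 0 + l u 0 = 0 := by
            have h7 := congrFun (hadd u (hUW.le hu) u (hUW.le hu)) 0
            rw [hsq u hu, hl1] at h7
            exact h7.symm
          rw [h6, zero_add] at h5
          rcases mul_eq_zero.1 h5 with h8 | h8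
          · refine Or.inr (hCc (hcoreρ w hw (x.hB hw) ?_))
            rw [ha, h8, Cfsg.Lib.PushBlocks.uS_zero]
          · refine Or.inl ⟨⟨u, hu⟩, ?_, rfl⟩
            show Multiplicative.ofAdd (l u 1) = 1
            rw [h8]; rfl }

end Cfsg.Lib.PushUpOrbit
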