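import Cfsg.Agent.QTKE.PushUp.Orbit
import Cfsg.Agent.QTKE.PushUp.PieceData
import Cfsg.Agent.LocalCStar.FullG
import Cfsg.Agent.LocalCStar.CInv
import Cfsg.Agent.Components.CharP
import Cfsg.Prelude.Def_Quasithin

/-!
A common normal `2`-subgroup for two members of `ℋ(T)`.
-/

set_option autoImplicit false
set_option linter.unusedSectionVars false
set_option linter.style.haveILetI false

namespace Cfsg.Lib.PushUpOrbit

open Subgroup
open Cfsg.Lib.FFSLTwo (cj)
open Cfsg.Lib.BlockPair (qOf wOf)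
open Cfsg.Lib.LocalCStar (GPiece)
open scoped commutatorElement

universe u

variable {G : Type u} [Group G] [Finite G]

theorem normalizer_le_omega (A : Subgroup G) :
    normalizer (A : Set G) ≤ normalizer (Cfsg.omegaOneCenter 2 A : Set G) := fun g hg => by
  rw [mem_normalizer_iff_map_conj_eq] at hg ⊢
  rw [Cfsg.Lib.PushBlocks.map_omegaOneCenter_inj _ (MulAut.conj g).injective]
  exact congrArg _ hg

theorem normalizer_le_baumannOf (A : Subgroup G) :
    normalizer (A : Set G) ≤ normalizer (Cfsg.baumannSubgroupOf 2 A : Set G) := fun g hg => by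
  rw [mem_normalizer_iff_map_conj_eq] at hg ⊢
  rw [Cfsg.Lib.PushUpFocal.map_baumann _ (MulAut.conj g).injective]
  exact congrArg _ hg

theorem omega_ne_bot {R : Subgroup G} (hR : R ≠ ⊥) (hp : IsPGroup 2 R) :
    Cfsg.omegaOneCenter 2 R ≠ ⊥ := by
  haveI : Nontrivial R := (Subgroup.nontrivial_iff_ne_bot R).2 hR
  haveI := hp.center_nontrivial
  obtain ⟨n, hn, hcard⟩ := (hp.to_subgroup (Subgroup.center R)).nontrivial_iff_card.1 inferInstance
  haveI : Fact (Nat.Prime 2) := ⟨Nat.prime_two⟩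
  obtain ⟨z, hz⟩ := exists_prime_orderOf_dvd_card' (G := Subgroup.center R) 2 (hcard ▸ dvd_pow_self 2 hn.ne')
  intro h0
  have hz1 : ((z : R) : G) ∈ Cfsg.omegaOneCenter 2 R := by
    refine subset_closure ⟨⟨(z : R).2, mem_centralizer_iff.2 fun r hr => ?_⟩, ?_⟩
    · exact congrArg Subtype.val (mem_center_iff.1 z.2 ⟨r, hr⟩)
    · have := pow_orderOf_eq_one z
      rw [hz] at this
      exact congrArg (fun y : Subgroup.center R => ((y : R) : G)) this
  rw [h0, mem_bot] at hz1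
  have h1 : z = 1 := Subtype.ext (Subtype.ext hz1)
  rw [h1, orderOf_one] at hz
  omega

theorem oddGenerated_eq (H : Subgroup G) : Cfsg.oddGenerated H = Cfsg.pResidualOf 2 H := by
  rw [Cfsg.oddGenerated, Cfsg.pResidualOf, Cfsg.pResidual, MonoidHom.map_closure]
  congr 1
  ext g
  constructor
  · rintro ⟨hg, ho⟩
    exact ⟨⟨g, hg⟩, (by rw [Set.mem_ofPred_eq, ← Subgroup.orderOf_coe]; exact Nat.coprime_two_right.2 ho), rfl⟩
  · rintro ⟨y, hy, rfl⟩
    refine ⟨y.2, ?_⟩
    rw [Subgroup.coe_subtype, Subgroup.orderOf_coe]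
    exact Nat.coprime_two_right.1 hy

theorem common_normal (hev : Cfsg.IsOfEvenCharacteristic G) (T : Sylow 2 G) {M₀ H : Subgroup G}
    (hTM : (T : Subgroup G) ≤ M₀) (hTH : (T : Subgroup G) ≤ H) (hH : Cfsg.pCore 2 ↥H ≠ ⊥)
    (hU : ∃! K : Subgroup ↥H, IsCoatom K ∧ (T : Subgroup G).subgroupOf H ≤ K)
    {R : Subgroup G} (hR : R ≠ ⊥) (hRT : R ≤ (T : Subgroup G))
    (hRS : ∃ P : Sylow 2 ↥(Cfsg.oddGenerated H ⊔ R),
      (P : Subgroup ↥(Cfsg.oddGenerated H ⊔ R)) = R.subgroupOf (Cfsg.oddGenerated H ⊔ R))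
    (hRM : M₀ ≤ normalizer (R : Set G)) :
    ∃ R₀ : Subgroup G, R₀ ≠ ⊥ ∧ R₀ ≤ R ∧ M₀ ⊔ H ≤ normalizer (R₀ : Set G) := by
  haveI : Fact (Nat.Prime 2) := ⟨Nat.prime_two⟩
  set X := Cfsg.oddGenerated H ⊔ R with hXdef
  obtain ⟨P, hP⟩ := hRS
  set S₀ := (T : Subgroup G)
  have hS₀p : IsPGroup 2 S₀ := T.2
  have hRp : IsPGroup 2 R := hS₀p.to_le hRT
  have hOH : Cfsg.oddGenerated H ≤ H := (closure_le _).2 fun x hx => hx.1
  have hXH : X ≤ H := sup_le hOH (hRT.trans hTH)
  have hPmap : (P : Subgroup ↥X).map X.subtype = R := by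
    rw [hP, subgroupOf_map_subtype, inf_eq_left.2 le_sup_right]
  have hXT : X ⊔ S₀ = H := by
    refine le_antisymm (sup_le hXH hTH) ?_
    conv_lhs => rw [← Cfsg.Lib.LocalCStar.residual_sup_eq (T := T) hTH, ← oddGenerated_eq]
    exact sup_le_sup_right le_sup_left _
  have hXn : H ≤ normalizer (X : Set G) := by
    have hTO : H ≤ normalizer (Cfsg.oddGenerated H : Set G) := by
      have key : ∀ a ∈ H, ∀ x ∈ Cfsg.oddGenerated H, a * x * a⁻¹ ∈ Cfsg.oddGenerated H := by
        intro a ha x hx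
        have h1 : Cfsg.oddGenerated H ≤ (Cfsg.oddGenerated H).comap (MulAut.conj a).toMonoidHom :=
          (closure_le _).2 fun y hy => subset_closure
            ⟨mul_mem (mul_mem ha hy.1) (inv_mem ha), by
              show Odd (orderOf ((MulAut.conj a) y))
              rw [MulEquiv.orderOf_eq]; exact hy.2⟩
        exact h1 hx
      intro a ha
      rw [mem_normalizer_iff]
      exact fun x => ⟨key a ha x, fun hx => by simpa [mul_assoc] using key a⁻¹ (inv_mem ha) _ hx⟩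
    have hT : S₀ ≤ normalizer (X : Set G) := fun t ht => by
      rw [mem_normalizer_iff_map_conj_eq, hXdef, Subgroup.map_sup,
        mem_normalizer_iff_map_conj_eq.1 (hTO (hTH ht)), mem_normalizer_iff_map_conj_eq.1 (hRM (hTM ht))]
    exact hXT.ge.trans (sup_le le_normalizer hT)
  -- characteristic two
  have hlocal : ∀ Z₀ : Subgroup G, Z₀ ≠ ⊥ → IsPGroup 2 Z₀ → S₀ ≤ normalizer (Z₀ : Set G) →
      Cfsg.Lib.Components.CharPGroup 2 ↥(normalizer (Z₀ : Set G)) := fun Z₀ hne hp hn =>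
    hev _ ⟨Z₀, hp, hne, rfl⟩ ⟨T, hn⟩
  have hcharX : Cfsg.Lib.Components.CharPGroup 2 ↥X := by
    set O := Cfsg.pCoreOf 2 H with hO
    have hOn : H ≤ normalizer (O : Set G) := le_normalizer.trans (Cfsg.Lib.Large.normalizer_pCoreOf_le H)
    set M := normalizer (O : Set G)
    have hM := hlocal O (fun h0 => hH ((map_eq_bot_iff_of_injective _ H.subtype_injective).1 h0))
      ((Cfsg.Lib.Components.isPGroup_pCore (G := ↥H) 2).map _) (hTH.trans hOn)
    haveI : (Cfsg.pCore 2 ↥M).Normal := Cfsg.Lib.Components.pCore_normal' 2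
    have hH'' : Cfsg.Lib.Components.CharPGroup 2 ↥H := by
      set f : ↥H →* ↥M := Subgroup.inclusion hOn
      haveI : ((Cfsg.pCore 2 ↥M).comap f).Normal := inferInstance
      have hle : (Cfsg.pCore 2 ↥M).comap f ≤ Cfsg.pCore 2 ↥H := le_sSup ⟨inferInstance,
        (Cfsg.Lib.Components.isPGroup_pCore (G := ↥M) 2).comap_of_injective f (Subgroup.inclusion_injective hOn)⟩
      intro c hc
      refine hle (mem_comap.2 (hM (mem_centralizer_iff.2 fun w hw => ?_)))
      have hwT : (w : G) ∈ S₀ := by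
        have h1 := Cfsg.Lib.Coprime.pCore_le_sylow 2 (T.subtype (hTH.trans hOn)) hw
        rw [Sylow.coe_subtype, mem_subgroupOf] at h1
        exact h1
      have h2 := mem_centralizer_iff.1 hc ⟨w, hTH hwT⟩ (hle (mem_comap.2 hw))
      exact Subtype.ext (congrArg (fun y : ↥H => (y : G)) h2)
    haveI : (X.subgroupOf H).Normal := (normal_subgroupOf_iff_le_normalizer hXH).2 hXn
    exact Cfsg.Lib.Components.charP_congr (subgroupOfEquivOfLe hXH)
      (Cfsg.Lib.Components.charP_subnormal hH'' (Subgroup.Normal.isSubnormal inferInstance))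
  -- the subgroups over `T`
  obtain ⟨K, ⟨hK, hKT⟩, hKuniq⟩ := hU
  set KG := K.map H.subtype
  have hTK : S₀ ≤ KG := fun t ht => ⟨⟨t, hTH ht⟩, hKT (mem_subgroupOf.2 ht), rfl⟩
  have hgen : ∀ Y : Subgroup G, Y ≤ H → ¬ Y ≤ KG → Y ⊔ S₀ = H := by
    intro Y hY hn
    have hle : Y ⊔ S₀ ≤ H := sup_le hY hTH
    rcases eq_top_or_exists_le_coatom ((Y ⊔ S₀).subgroupOf H) with h | ⟨L, hL, hle'⟩
    · exact le_antisymm hle (subgroupOf_eq_top.1 h)
    · exfalso
      have hLK : L = K := hKuniq L ⟨hL, fun y hy => hle' (mem_subgroupOf.2 (mem_sup_right (mem_subgroupOf.1 hy)))⟩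
      exact hn fun y hy => ⟨⟨y, hY hy⟩, hLK ▸ hle' (mem_subgroupOf.2 (mem_sup_left hy)), rfl⟩
  have hfinish : ∀ (V Y : Subgroup G), V ≠ ⊥ → V ≤ R → M₀ ≤ normalizer (V : Set G) → Y ≤ H → ¬ Y ≤ KG →
      Y ≤ normalizer (V : Set G) → ∃ R₀ : Subgroup G, R₀ ≠ ⊥ ∧ R₀ ≤ R ∧ M₀ ⊔ H ≤ normalizer (R₀ : Set G) :=
    fun V Y hV hVR hVM hYH hYK hYV => ⟨V, hV, hVR, sup_le hVM
      ((hgen Y hYH hYK).ge.trans (sup_le hYV (hTM.trans hVM)))⟩
  have hXK : ¬ X ≤ KG := fun hle => hK.1 <| top_le_iff.1 fun h _ => by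
    obtain ⟨k, hk, hkh⟩ := (hXT.ge.trans (sup_le hle hTK)) h.2
    exact Subtype.ext hkh ▸ hk
  set B := Cfsg.baumannSubgroupOf 2 (P : Subgroup ↥X) with hB
  have hBmap : B.map X.subtype = Cfsg.baumannSubgroupOf 2 R := by
    rw [hB, Cfsg.Lib.PushUpFocal.map_baumann X.subtype X.subtype_injective, hPmap]
  have hBR : B.map X.subtype ≤ R := hPmap ▸ map_mono inf_le_left
  have hBM : M₀ ≤ normalizer ((B.map X.subtype : Subgroup G) : Set G) :=
    hBmap ▸ hRM.trans (normalizer_le_baumannOf R)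
  -- the generators of `C*`
  by_cases hcS : (Cfsg.cStarOf 2 (P : Subgroup ↥X)).map X.subtype ≤ KG
  swap
  · rw [Cfsg.cStarOf, Cfsg.charNormalizersJoin, Subgroup.map_sup, Subgroup.map_iSup] at hcS
    rcases not_and_or.1 (fun h => hcS (sup_le_iff.2 h)) with hc | hc
    · refine hfinish (Cfsg.omegaOneCenter 2 R) _ (omega_ne_bot hR hRp)
        (fun z hz => (Cfsg.Lib.FFModule.omegaOneCenter_mem hz).1) (hRM.trans (normalizer_le_omega R))
        ((map_subtype_le _).trans hXH) hc (le_trans ?_ (centralizer_le_normalizer _))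
      rw [← hPmap, ← Cfsg.Lib.PushBlocks.map_omegaOneCenter_inj _ X.subtype_injective]
      rintro _ ⟨y, hy, rfl⟩
      exact (mem_centralizer_map X.subtype_injective _ y).2 hy
    · obtain ⟨⟨C, hCB, hCne, hCch⟩, hc⟩ := not_forall.1 (fun h => hc (iSup_le h))
      refine hfinish (C.map X.subtype) _ (fun h0 => hCne ((map_eq_bot_iff_of_injective _ X.subtype_injective).1 h0))
        ((map_mono hCB).trans hBR) (hBM.trans fun m hm => ?_) ((map_subtype_le _).trans hXH) hc
        (le_normalizer_map X.subtype)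
      -- characteristic in the normalised Baumann subgroup
      refine Cfsg.Lib.PushMin.normalizer_le_char (map_mono hCB) ?_ hm
      let eB : ↥B ≃* ↥(B.map X.subtype) := B.equivMapOfInjective X.subtype X.subtype_injective
      have hDB : (C.map X.subtype).subgroupOf (B.map X.subtype) = (C.subgroupOf B).map eB.toMonoidHom := by
        ext x
        rw [mem_subgroupOf]
        constructor
        · rintro ⟨c, hc, hcx⟩
          exact ⟨⟨c, hCB hc⟩, mem_subgroupOf.2 hc, Subtype.ext hcx⟩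
        · rintro ⟨s, hs, rfl⟩
          exact ⟨_, mem_subgroupOf.1 hs, rfl⟩
      rw [hDB]
      refine characteristic_iff_map_le.2 fun α => ?_
      rintro _ ⟨_, ⟨s, hs, rfl⟩, rfl⟩
      refine ⟨eB.symm (α (eB s)), ?_, eB.apply_symm_apply _⟩
      exact characteristic_iff_map_le.1 hCch ((eB.trans α).trans eB.symm) (mem_map_of_mem _ hs)
  -- a piece outside `K`
  have hne : Cfsg.cStarOf 2 (P : Subgroup ↥X) ≠ ⊤ := fun h => hXK <| by
    rw [h, ← MonoidHom.range_eq_map, Subgroup.range_subtype] at hcS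
    exact hcS
  obtain ⟨x, hxK⟩ : ∃ x : GPiece P, ¬ x.E.map X.subtype ≤ KG := by
    by_contra hall
    push Not at hall
    refine hXK ?_
    have h := congrArg (Subgroup.map X.subtype) (Cfsg.Lib.LocalCStar.pieces_span hcharX hne)
    rw [Subgroup.map_sup, Subgroup.map_iSup, ← MonoidHom.range_eq_map, Subgroup.range_subtype] at h
    exact h.ge.trans (sup_le hcS (iSup_le hall))
  obtain ⟨q, hq⟩ := piece_of_gpiece x
  have hp := hq.map X.subtype X.subtype_injective
  have hUV : qOf 2 x.E ≤ Cfsg.omegaOneCenter 2 (Cfsg.pCore 2 ↥X) := by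
    have hUW : qOf 2 x.E = Cfsg.Lib.BlockPair.wOf 2 x.E :=
      (Cfsg.Lib.BlockPair.top_kind x.isBlk).resolve_right fun h => absurd h.1 (by norm_num)
    calc qOf 2 x.E = ⁅qOf 2 x.E, x.E⁆ := x.shape.2.2.1.symm
      _ = x.W := by rw [hUW]
      _ ≤ _ := x.W_le_vS hcharX
  have hT : ∀ t ∈ S₀, cj t ((qOf 2 x.E).map X.subtype) ≤
      centralizer (((qOf 2 x.E).map X.subtype : Subgroup G) : Set G) := by
    intro t ht
    set W := (Cfsg.omegaOneCenter 2 (Cfsg.pCore 2 ↥X)).map X.subtype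
    have hWn : cj t W = W := by
      refine mem_normalizer_iff_map_conj_eq.1 (?_ : t ∈ normalizer (W : Set G))
      rw [show W = Cfsg.omegaOneCenter 2 (Cfsg.pCoreOf 2 X) from
        Cfsg.Lib.PushBlocks.map_omegaOneCenter_inj _ X.subtype_injective _]
      exact normalizer_le_omega _ (Cfsg.Lib.Large.normalizer_pCoreOf_le X (hXn (hTH ht)))
    have hab : W ≤ centralizer (W : Set G) := by
      rintro _ ⟨a, ha, rfl⟩
      refine (mem_centralizer_map X.subtype_injective _ a).2 (mem_centralizer_iff.2 fun b hb => ?_)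
      exact congrArg Subtype.val ((Cfsg.Lib.FFModule.omegaOneCenter_elementary (p := 2)
        (Cfsg.pCore 2 ↥X)).1.is_comm.comm ⟨b, hb⟩ ⟨a, ha⟩)
    calc cj t ((qOf 2 x.E).map X.subtype) ≤ cj t W := map_mono (map_mono hUV)
      _ = W := hWn
      _ ≤ centralizer (W : Set G) := hab
      _ ≤ centralizer (((qOf 2 x.E).map X.subtype : Subgroup G) : Set G) := centralizer_le (map_mono hUV)
  have hloc : ∀ Z₀ : Subgroup G, Z₀ ≠ ⊥ → Z₀ ≤ B.map X.subtype → S₀ ≤ normalizer (Z₀ : Set G) →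
      ∃ W : Subgroup G, W ≤ S₀ ∧ normalizer (Z₀ : Set G) ≤ normalizer (W : Set G) ∧
        centralizer (W : Set G) ⊓ normalizer (Z₀ : Set G) ≤ W := by
    intro Z₀ hne hZS hTn
    set N := normalizer (Z₀ : Set G)
    have hN := hlocal Z₀ hne (hS₀p.to_le (hZS.trans (hBR.trans hRT))) hTn
    refine ⟨Cfsg.pCoreOf 2 N, ?_, le_normalizer.trans (Cfsg.Lib.Large.normalizer_pCoreOf_le N), ?_⟩
    · refine (map_mono (Cfsg.Lib.Coprime.pCore_le_sylow 2 (T.subtype hTn))).trans ?_
      rw [Sylow.coe_subtype, subgroupOf_map_subtype]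
      exact inf_le_left
    · rintro g ⟨hgc, hgN⟩
      exact ⟨⟨g, hgN⟩, hN (mem_centralizer_iff.2 fun y hy => Subtype.ext
        (mem_centralizer_iff.1 hgc (y : G) (mem_map_of_mem _ hy))), rfl⟩
  obtain ⟨V, hVne, hVS, hVn⟩ := exists_common hTM hS₀p (T.subtype hTM).not_dvd_index (hBR.trans hRT)
    hBM hp hT hloc
  exact hfinish V _ hVne (hVS.trans hBR) (le_sup_left.trans hVn) ((map_subtype_le _).trans hXH) hxK
    (le_sup_right.trans hVn)

end Cfsg.Lib.PushUpOrbit
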