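import Cfsg.Agent.PLocal.FFModule.Basic

/-!
Two natural-module pieces over one normalised `2`-group: no triangle, and no common local overgroup of an edge.
-/

set_option autoImplicit false
set_option linter.unusedSectionVars false
set_option linter.style.haveILetI false

namespace Cfsg.Lib.PushUpOrbit

open Subgroup
open scoped commutatorElement

universe u v

variable {G : Type u} [Group G]

/-- a subgroup `E` with a natural module `U` inside the `2`-group `S`, the index of the kernel being `q` -/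
structure Piece (S E U : Subgroup G) (q : ℕ) : Prop where
  U_le_S : U ≤ S
  U_le_E : U ≤ E
  comm : ∀ a ∈ U, ∀ b ∈ U, a * b = b * a
  sq : ∀ a ∈ U, a * a = 1
  E_normU : E ≤ normalizer (U : Set G)
  S_normE : S ≤ normalizer (E : Set G)
  S_normU : S ≤ normalizer (U : Set G)
  moved : ⁅U, E⁆ = U
  comm_S : ⁅E, S⁆ = E
  notle : ¬ E ≤ U
  core : ∀ s ∈ S, s ∈ centralizer (U : Set G) → ∀ e ∈ E, ⁅e, s⁆ ∈ U
  radical : ∀ M : Subgroup G, M ≤ E → IsPGroup 2 M → E ≤ normalizer (M : Set G) → M ≤ U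
  irr : ∀ M : Subgroup G, M ≤ U → E ≤ normalizer (M : Set G) → ¬ M ≤ centralizer (E : Set G) →
    U ≤ M ⊔ (U ⊓ centralizer (E : Set G))
  gen : E ≤ closure {g | g ∈ E ∧ Odd (orderOf g)}
  idx : (S ⊓ centralizer (U : Set G)).relIndex S = q
  line : ∃ P : Subgroup G, P ≤ U ∧ P.relIndex U = q ∧
    ∀ u ∈ U, ∀ w ∈ S, ⁅u, w⁆ ∈ centralizer (E : Set G) → u ∈ P ∨ w ∈ centralizer (U : Set G)

theorem mem_centralizer_map {G' : Type v} [Group G'] {f : G →* G'} (hf : Function.Injective f)
    (A : Subgroup G) (x : G) : f x ∈ centralizer (A.map f : Set G') ↔ x ∈ centralizer (A : Set G) := by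
  simp only [mem_centralizer_iff, Subgroup.coe_map, Set.forall_mem_image]
  exact forall₂_congr fun a _ => ⟨fun h => hf (by rw [map_mul, map_mul, h]), fun h => by
    rw [← map_mul, ← map_mul, h]⟩

theorem inf_centralizer_map {G' : Type v} [Group G'] {f : G →* G'} (hf : Function.Injective f)
    (A B : Subgroup G) :
    (A ⊓ centralizer (B : Set G)).map f = A.map f ⊓ centralizer (B.map f : Set G') := by
  ext y
  constructor
  · rintro ⟨x, hx, rfl⟩
    exact ⟨mem_map_of_mem f hx.1, (mem_centralizer_map hf B x).2 hx.2⟩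
  · rintro ⟨⟨x, hx, rfl⟩, h⟩
    exact ⟨x, ⟨hx, (mem_centralizer_map hf B x).1 h⟩, rfl⟩

theorem normalizer_comap_map {G' : Type v} [Group G'] {f : G →* G'}
    {A : Subgroup G} {M : Subgroup G'} (hn : A.map f ≤ normalizer (M : Set G')) :
    A ≤ normalizer (M.comap f : Set G) := fun a ha => by
  rw [mem_normalizer_iff]
  intro x
  rw [mem_comap, mem_comap, map_mul, map_mul, map_inv]
  exact mem_normalizer_iff.1 (hn (mem_map_of_mem f ha)) (f x)

theorem le_normalizer_centralizer {G₀ : Type*} [Group G₀] (A : Subgroup G₀) :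
    A ≤ normalizer (centralizer (A : Set G₀) : Set G₀) := fun x hx => by
  rw [mem_normalizer_iff]
  intro z
  simp only [mem_centralizer_iff]
  have hA := mem_normalizer_iff.1 (le_normalizer hx)
  constructor
  · intro hz a ha
    have := hz (x⁻¹ * a * x) (mul_mem (mul_mem (inv_mem hx) ha) hx)
    calc a * (x * z * x⁻¹) = x * (x⁻¹ * a * x * z) * x⁻¹ := by group
      _ = x * (z * (x⁻¹ * a * x)) * x⁻¹ := by rw [this]
      _ = x * z * x⁻¹ * a := by group
  · intro hz a ha
    have := hz (x * a * x⁻¹) ((hA a).1 ha)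
    calc a * z = x⁻¹ * (x * a * x⁻¹ * (x * z * x⁻¹)) * x := by group
      _ = x⁻¹ * (x * z * x⁻¹ * (x * a * x⁻¹)) * x := by rw [this]
      _ = z * a := by group

/-- pieces move along injective homomorphisms -/
theorem Piece.map {S E U : Subgroup G} {q : ℕ} (h : Piece S E U q) {G' : Type v} [Group G'] (f : G →* G')
    (hf : Function.Injective f) : Piece (S.map f) (E.map f) (U.map f) q where
  U_le_S := map_mono h.U_le_S
  U_le_E := map_mono h.U_le_E
  comm := by
    rintro _ ⟨a, ha, rfl⟩ _ ⟨b, hb, rfl⟩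
    rw [← map_mul, ← map_mul, h.comm a ha b hb]
  sq := by
    rintro _ ⟨a, ha, rfl⟩
    rw [← map_mul, h.sq a ha, map_one]
  E_normU := (map_mono h.E_normU).trans (le_normalizer_map f)
  S_normE := (map_mono h.S_normE).trans (le_normalizer_map f)
  S_normU := (map_mono h.S_normU).trans (le_normalizer_map f)
  moved := by rw [← map_commutator, h.moved]
  comm_S := by rw [← map_commutator, h.comm_S]
  notle := fun hle => h.notle ((map_le_map_iff_of_injective hf).1 hle)
  core := by
    rintro _ ⟨s, hs, rfl⟩ hc _ ⟨e, he, rfl⟩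
    rw [← map_commutatorElement]
    exact mem_map_of_mem f (h.core s hs ((mem_centralizer_map hf U s).1 hc) e he)
  radical := by
    intro M hME hMp hn
    have hMr : M ≤ f.range := hME.trans (map_le_range f E)
    rw [← map_comap_eq_self hMr]
    refine map_mono (h.radical _ (fun x hx => ?_) (hMp.comap_of_injective f hf) (normalizer_comap_map hn))
    exact (mem_map_iff_mem hf).1 (hME hx)
  irr := by
    intro M hMU hn hnc
    have hMr : M ≤ f.range := hMU.trans (map_le_range f U)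
    have h2 := h.irr (M.comap f) (fun x hx => (mem_map_iff_mem hf).1 (hMU hx)) (normalizer_comap_map hn)
      fun hc => hnc fun y hy => by
        obtain ⟨x, rfl⟩ := hMr hy
        exact (mem_centralizer_map hf E x).2 (hc hy)
    rw [← map_comap_eq_self hMr, ← inf_centralizer_map hf, ← Subgroup.map_sup]
    exact map_mono h2
  gen := by
    refine (map_mono h.gen).trans ?_
    rw [MonoidHom.map_closure]
    refine closure_mono ?_
    rintro _ ⟨g, ⟨hgE, hg⟩, rfl⟩
    exact ⟨mem_map_of_mem f hgE, by rwa [orderOf_injective f hf g]⟩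
  idx := by rw [← inf_centralizer_map hf, relIndex_map_map_of_injective _ _ hf, h.idx]
  line := by
    obtain ⟨P, hP, hq, hl⟩ := h.line
    refine ⟨P.map f, map_mono hP, by rw [relIndex_map_map_of_injective _ _ hf, hq], ?_⟩
    rintro _ ⟨a, ha, rfl⟩ _ ⟨w, hw, rfl⟩ hc
    rw [← map_commutatorElement] at hc
    rcases hl a ha w hw ((mem_centralizer_map hf E _).1 hc) with h1 | h1
    · exact Or.inl (mem_map_of_mem f h1)
    · exact Or.inr ((mem_centralizer_map hf U w).2 h1)

namespace Piece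

variable {S E U E' U' E'' U'' : Subgroup G} {q : ℕ}

theorem moved_mem (h : Piece S E U q) {s e : G} (hs : s ∈ S) (hc : s ∈ centralizer (U : Set G)) (he : e ∈ E) :
    ∃ v ∈ U, e * s * e⁻¹ = v * s :=
  ⟨⁅e, s⁆, h.core s hs hc e he, by rw [commutatorElement_def]; group⟩

/-- commutators of elements centralising `U` centralise `E` -/
theorem comm_mem (h : Piece S E U q) {a b : G} (ha : a ∈ S) (hac : a ∈ centralizer (U : Set G))
    (hb : b ∈ S) (hbc : b ∈ centralizer (U : Set G)) : ⁅a, b⁆ ∈ centralizer (E : Set G) := by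
  refine mem_centralizer_iff.2 fun e he => ?_
  obtain ⟨v, hv, hva⟩ := h.moved_mem ha hac he
  obtain ⟨w, hw, hwb⟩ := h.moved_mem hb hbc he
  have e1 : e * ⁅a, b⁆ * e⁻¹ = ⁅e * a * e⁻¹, e * b * e⁻¹⁆ := conjugate_commutatorElement _ _ _
  rw [hva, hwb] at e1
  have cva : Commute v a := mem_centralizer_iff.1 hac v hv
  have cwa : Commute w a := mem_centralizer_iff.1 hac w hw
  have cvb : Commute v b := mem_centralizer_iff.1 hbc v hv
  have cwb : Commute w b := mem_centralizer_iff.1 hbc w hw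
  have cvw : Commute v w := h.comm v hv w hw
  have e2 : ⁅v * a, w * b⁆ = ⁅a, b⁆ := by
    have c1 : v * a * (w * b) = v * w * (a * b) := cwa.symm.mul_mul_mul_comm v b
    have c2 : w * b * (v * a) = v * w * (b * a) := by
      rw [cvb.symm.mul_mul_mul_comm w a, cvw.eq]
    have key : ∀ x y : G, ⁅x, y⁆ = x * y * (y * x)⁻¹ := fun x y => by rw [commutatorElement_def]; group
    rw [key, key, c1, c2]
    have c3 : Commute (v * w) (a * b * (b * a)⁻¹) :=
      Commute.mul_right ((cva.mul_left cwa).mul_right (cvb.mul_left cwb))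
        ((cvb.mul_left cwb).mul_right (cva.mul_left cwa)).inv_right
    calc v * w * (a * b) * (v * w * (b * a))⁻¹ = v * w * (a * b * (b * a)⁻¹) * (v * w)⁻¹ := by group
      _ = a * b * (b * a)⁻¹ := by rw [c3.eq, mul_inv_cancel_right]
  rw [e2] at e1
  exact mul_inv_eq_iff_eq_mul.1 e1

/-- squares of elements centralising `U` centralise `E` -/
theorem sq_mem (h : Piece S E U q) {c : G} (hc : c ∈ S) (hcc : c ∈ centralizer (U : Set G)) :
    c * c ∈ centralizer (E : Set G) := by
  refine mem_centralizer_iff.2 fun e he => ?_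
  obtain ⟨v, hv, hvc⟩ := h.moved_mem hc hcc he
  have cvc : Commute v c := mem_centralizer_iff.1 hcc v hv
  have e1 : e * (c * c) * e⁻¹ = c * c := by
    calc e * (c * c) * e⁻¹ = e * c * e⁻¹ * (e * c * e⁻¹) := by group
      _ = v * c * (v * c) := by rw [hvc]
      _ = v * v * (c * c) := cvc.symm.mul_mul_mul_comm v c
      _ = c * c := by rw [h.sq v hv, one_mul]
  exact mul_inv_eq_iff_eq_mul.1 e1

theorem not_le_symm (hne : ¬ U' ≤ centralizer (U : Set G)) : ¬ U ≤ centralizer (U' : Set G) := fun hh =>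
  hne (le_centralizer_iff.1 hh)

variable [Finite G]

/-- two noncommuting modules: the index equations -/
theorem pair_facts (h : Piece S E U q) (h' : Piece S E' U' q) (hne : ¬ U' ≤ centralizer (U : Set G)) :
    (∀ s ∈ S, ∃ a ∈ U, ∃ r ∈ S ⊓ centralizer (U' : Set G), s = a * r) ∧
      ∀ u ∈ U, ∀ w ∈ S, ⁅u, w⁆ ∈ centralizer (E : Set G) →
        u ∈ centralizer (U' : Set G) ∨ w ∈ centralizer (U : Set G) := by
  obtain ⟨P, hPU, hPq, hl⟩ := h.line
  set A := U ⊓ centralizer (U' : Set G)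
  set Q' := S ⊓ centralizer (U' : Set G) with hQ'
  obtain ⟨w₀, hw₀, hw₀n⟩ := SetLike.not_le_iff_exists.1 hne
  have hAP : A ≤ P := fun u hu => by
    have h1 : ⁅u, w₀⁆ = 1 :=
      commutatorElement_eq_one_iff_mul_comm.2 (mem_centralizer_iff.1 hu.2 w₀ hw₀).symm
    exact (hl u hu.1 w₀ (h'.U_le_S hw₀) (h1 ▸ one_mem _)).resolve_right hw₀n
  have hAeq : Q'.relIndex U = A.relIndex U := by
    rw [← inf_relIndex_right Q' U, hQ']
    congr 1
    ext x
    exact ⟨fun hx => ⟨hx.2, hx.1.2⟩, fun hx => ⟨⟨h.U_le_S hx.1, hx.2⟩, hx.1⟩⟩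
  have hAle : A.relIndex U ≤ q := by
    rw [← hAeq, ← h'.idx]
    exact relIndex_le_of_le_right h.U_le_S index_ne_zero_of_finite
  have hmul := relIndex_mul_relIndex A P U hAP hPU
  rw [hPq] at hmul
  have hq : q ≠ 0 := hPq ▸ index_ne_zero_of_finite
  have hA1 : A.relIndex P = 1 := le_antisymm
    (Nat.le_of_mul_le_mul_right (by rw [hmul, one_mul]; exact hAle) (Nat.pos_of_ne_zero hq))
    (Nat.pos_of_ne_zero index_ne_zero_of_finite)
  have hPA : P ≤ A := relIndex_eq_one.1 hA1
  refine ⟨?_, fun u hu w hw hc => (hl u hu w hw hc).imp_left fun hP => (hPA hP).2⟩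
  have hn : U ≤ normalizer (Q' : Set G) := fun x hx => by
    rw [mem_normalizer_iff]
    intro y
    have hxS := h.U_le_S hx
    have hcn : x ∈ normalizer (centralizer (U' : Set G) : Set G) := by
      have hx' := h'.S_normU hxS
      rw [mem_normalizer_iff]
      intro z
      simp only [mem_centralizer_iff]
      constructor
      · intro hz a ha
        have := hz (x⁻¹ * a * x) ((mem_normalizer_iff''.1 hx' a).1 ha)
        calc a * (x * z * x⁻¹) = x * (x⁻¹ * a * x * z) * x⁻¹ := by group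
          _ = x * (z * (x⁻¹ * a * x)) * x⁻¹ := by rw [this]
          _ = x * z * x⁻¹ * a := by group
      · intro hz a ha
        have := hz (x * a * x⁻¹) ((mem_normalizer_iff.1 hx' a).1 ha)
        calc a * z = x⁻¹ * (x * a * x⁻¹ * (x * z * x⁻¹)) * x := by group
          _ = x⁻¹ * (x * z * x⁻¹ * (x * a * x⁻¹)) * x := by rw [this]
          _ = z * a := by group
    rw [hQ', mem_inf, mem_inf]
    exact and_congr (mem_normalizer_iff.1 (le_normalizer hxS) y) (mem_normalizer_iff.1 hcn y)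
  set X := Q' ⊔ U
  have hXS : X ≤ S := sup_le inf_le_left h.U_le_S
  have h1 : q ≤ Q'.relIndex X := by
    calc q = P.relIndex U := hPq.symm
      _ = A.relIndex U := by rw [le_antisymm hPA hAP]
      _ = Q'.relIndex U := hAeq.symm
      _ ≤ Q'.relIndex X := relIndex_le_of_le_right le_sup_right index_ne_zero_of_finite
  have h2 := relIndex_mul_relIndex Q' X S le_sup_left hXS
  rw [hQ', h'.idx, ← hQ'] at h2
  have h3 : X.relIndex S = 1 := le_antisymm
    (Nat.le_of_mul_le_mul_left (show Q'.relIndex X * X.relIndex S ≤ Q'.relIndex X * 1 by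
      rw [h2, mul_one]; exact h1) (Nat.pos_of_ne_zero index_ne_zero_of_finite))
    (Nat.pos_of_ne_zero index_ne_zero_of_finite)
  intro s hs
  have hs' : s ∈ (↑(U ⊔ Q') : Set G) := by
    rw [sup_comm]; exact relIndex_eq_one.1 h3 hs
  rw [coe_mul_of_left_le_normalizer_right _ _ hn] at hs'
  obtain ⟨a, ha, r, hr, rfl⟩ := hs'
  exact ⟨a, ha, r, hr, rfl⟩

theorem decomp (h : Piece S E U q) (h' : Piece S E' U' q) (hne : ¬ U' ≤ centralizer (U : Set G)) :
    ∀ s ∈ S, ∃ a ∈ U, ∃ w ∈ U', ∃ c, c ∈ S ∧ c ∈ centralizer (U : Set G) ∧ c ∈ centralizer (U' : Set G) ∧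
      s = a * w * c := by
  intro s hs
  obtain ⟨a, ha, r, hr, rfl⟩ := (h.pair_facts h' hne).1 s hs
  obtain ⟨w, hw, c, hc, rfl⟩ := (h'.pair_facts h (not_le_symm hne)).1 r hr.1
  have hwc : w ∈ centralizer (U' : Set G) := mem_centralizer_iff.2 fun x hx => h'.comm x hx w hw
  exact ⟨a, ha, w, hw, c, hc.1, hc.2, by simpa using mul_mem (inv_mem hwc) hr.2, (mul_assoc _ _ _).symm⟩

/-- the commutator with `S` is the commutator of the two modules -/
theorem commutator_eq (h : Piece S E U q) (h' : Piece S E' U' q) (hne : ¬ U' ≤ centralizer (U : Set G)) :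
    ⁅U, S⁆ = ⁅U, U'⁆ := by
  refine le_antisymm ?_ (commutator_mono le_rfl h'.U_le_S)
  rw [commutator_le]
  intro u hu s hs
  obtain ⟨w, hw, r, hr, rfl⟩ := (h'.pair_facts h (not_le_symm hne)).1 s hs
  have hur : u * r = r * u := mem_centralizer_iff.1 hr.2 u hu
  have e : ⁅u, w * r⁆ = ⁅u, w⁆ := by
    calc ⁅u, w * r⁆ = ⁅u, w⁆ * (w * (u * r) * u⁻¹ * r⁻¹ * w⁻¹) := by
          rw [commutatorElement_def, commutatorElement_def]; group
      _ = ⁅u, w⁆ := by rw [hur]; group
  exact e ▸ commutator_mem_commutator hu hw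

theorem commutator_eq' (h : Piece S E U q) (h' : Piece S E' U' q) (hne : ¬ U' ≤ centralizer (U : Set G)) :
    ⁅U, S⁆ = ⁅U', S⁆ := by
  rw [h.commutator_eq h' hne, h'.commutator_eq h (not_le_symm hne), commutator_comm]

/-- the commutator is not centralised by `E` -/
theorem commutator_not_le (h : Piece S E U q) (h' : Piece S E' U' q) (hne : ¬ U' ≤ centralizer (U : Set G)) :
    ¬ ⁅U, S⁆ ≤ centralizer (E : Set G) := fun hle => by
  obtain ⟨w, hw, hwn⟩ := SetLike.not_le_iff_exists.1 hne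
  obtain ⟨u, hu, hun⟩ := SetLike.not_le_iff_exists.1 (not_le_symm hne)
  exact ((h.pair_facts h' hne).2 u hu w (h'.U_le_S hw)
    (hle (commutator_mem_commutator hu (h'.U_le_S hw)))).elim hun hwn

/-- a third module commuting with both has its commutator centralised by both pieces -/
theorem third_central (h : Piece S E U q) (h' : Piece S E' U' q) (hne : ¬ U' ≤ centralizer (U : Set G))
    (h'' : Piece S E'' U'' q) (hc : U'' ≤ centralizer (U : Set G)) (hc' : U'' ≤ centralizer (U' : Set G)) :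
    ⁅U'', S⁆ ≤ centralizer (E : Set G) ⊓ centralizer (E' : Set G) := by
  rw [commutator_le]
  intro x hx s hs
  obtain ⟨a, ha, w, hw, c, hcS, hcU, hcU', rfl⟩ := h.decomp h' hne s hs
  have hxa : Commute x a := (mem_centralizer_iff.1 (hc hx) a ha).symm
  have hxw : Commute x w := (mem_centralizer_iff.1 (hc' hx) w hw).symm
  have hD : ⁅x, c⁆ ∈ centralizer (E : Set G) ⊓ centralizer (E' : Set G) :=
    ⟨h.comm_mem (h''.U_le_S hx) (hc hx) hcS hcU, h'.comm_mem (h''.U_le_S hx) (hc' hx) hcS hcU'⟩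
  have d1 : Commute a ⁅x, c⁆ := mem_centralizer_iff.1 hD.1 a (h.U_le_E ha)
  have d2 : Commute w ⁅x, c⁆ := mem_centralizer_iff.1 hD.2 w (h'.U_le_E hw)
  have e : ⁅x, a * w * c⁆ = ⁅x, c⁆ := by
    calc ⁅x, a * w * c⁆ = (x * (a * w)) * (c * x⁻¹ * c⁻¹) * (a * w)⁻¹ := by
          rw [commutatorElement_def]; group
      _ = ((a * w) * x) * (c * x⁻¹ * c⁻¹) * (a * w)⁻¹ := by rw [(hxa.mul_right hxw).eq]
      _ = (a * w) * ⁅x, c⁆ * (a * w)⁻¹ := by rw [commutatorElement_def]; group
      _ = ⁅x, c⁆ := by rw [(d1.mul_left d2).eq, mul_inv_cancel_right]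
  exact e ▸ hD

/-- no three modules pairwise fail to commute -/
theorem no_triangle (h : Piece S E U q) (h' : Piece S E' U' q) (hne : ¬ U' ≤ centralizer (U : Set G))
    (h'' : Piece S E'' U'' q) (h1 : ¬ U'' ≤ centralizer (U : Set G))
    (h2 : ¬ U'' ≤ centralizer (U' : Set G)) : False := by
  have key : ∀ x ∈ U'', x ∈ centralizer (U : Set G) ∨ x ∈ centralizer (U' : Set G) := by
    intro x hx
    obtain ⟨a, ha, w, hw, c, hcS, hcU, hcU', rfl⟩ := h.decomp h' hne x (h''.U_le_S hx)
    have cca : Commute a c := mem_centralizer_iff.1 hcU a ha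
    have ccw : Commute w c := mem_centralizer_iff.1 hcU' w hw
    have hxx := h''.sq _ hx
    have haw : a * w * (a * w) * (c * c) = 1 := by
      rw [← (cca.mul_left ccw).symm.mul_mul_mul_comm (a * w) c]
      exact hxx
    have hcomm : ⁅a, w⁆ = (c * c)⁻¹ := by
      rw [commutatorElement_def, inv_eq_of_mul_eq_one_right (h.sq a ha),
        inv_eq_of_mul_eq_one_right (h'.sq w hw), ← mul_eq_one_iff_eq_inv]
      simpa [mul_assoc] using haw
    have hD : ⁅a, w⁆ ∈ centralizer (E : Set G) := hcomm ▸ inv_mem (h.sq_mem hcS hcU)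
    have haU : a ∈ centralizer (U : Set G) := mem_centralizer_iff.2 fun y hy => h.comm y hy a ha
    have hwU' : w ∈ centralizer (U' : Set G) := mem_centralizer_iff.2 fun y hy => h'.comm y hy w hw
    rcases (h.pair_facts h' hne).2 a ha w (h'.U_le_S hw) hD with hu | hu
    · exact Or.inr (mul_mem (mul_mem hu hwU') hcU')
    · exact Or.inl (mul_mem (mul_mem haU hu) hcU)
  obtain ⟨x, hx, hxn⟩ := SetLike.not_le_iff_exists.1 h1
  obtain ⟨y, hy, hyn⟩ := SetLike.not_le_iff_exists.1 h2
  have hx' := (key x hx).resolve_left hxn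
  have hy' := (key y hy).resolve_right hyn
  rcases key _ (mul_mem hx hy) with hh | hh
  · exact hxn (by simpa using mul_mem hh (inv_mem hy'))
  · exact hyn (by simpa using mul_mem (inv_mem hx') hh)

/-- elements moved only into the centraliser of `E` are centralised -/
theorem centralizes (h : Piece S E U q) {s : G} (hm : ∀ e ∈ E, ⁅e, s⁆ ∈ U ⊓ centralizer (E : Set G)) :
    s ∈ centralizer (E : Set G) := by
  have hadd : ∀ a ∈ E, ∀ b ∈ E, ⁅a * b, s⁆ = ⁅b, s⁆ * ⁅a, s⁆ := by
    intro a ha b hb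
    have hab : a * ⁅b, s⁆ = ⁅b, s⁆ * a := mem_centralizer_iff.1 (hm b hb).2 a ha
    have e1 : ⁅a * b, s⁆ = a * ⁅b, s⁆ * (s * a⁻¹ * s⁻¹) := by
      rw [commutatorElement_def, commutatorElement_def]; group
    rw [e1, hab, commutatorElement_def, commutatorElement_def]
    group
  suffices hE : E ≤ centralizer ({s} : Set G) from
    mem_centralizer_iff.2 fun e he => (mem_centralizer_iff.1 (hE he) s rfl).symm
  refine h.gen.trans ((closure_le _).2 ?_)
  rintro g ⟨hg, hodd⟩
  have hpow : ∀ n : ℕ, ⁅g ^ n, s⁆ = ⁅g, s⁆ ^ n := by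
    intro n
    induction n with
    | zero => simp
    | succ n ih => rw [pow_succ', hadd g hg _ (pow_mem hg n), ih, pow_succ]
  have h0 := hpow (orderOf g)
  rw [pow_orderOf_eq_one, commutatorElement_one_left] at h0
  have hone : ⁅g, s⁆ = 1 := by
    obtain ⟨k, hk⟩ := hodd
    rw [hk, pow_succ, pow_mul, pow_two, h.sq _ (hm g hg).1, one_pow, one_mul] at h0
    exact h0.symm
  exact mem_centralizer_iff.2 fun y hy => by
    rw [Set.mem_singleton_iff.1 hy]
    exact (commutatorElement_eq_one_iff_mul_comm.1 hone).symm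

/-- two noncommuting pieces have no self-centralising normalised `2`-subgroup -/
theorem no_common_local (h : Piece S E U q) (h' : Piece S E' U' q) (hne : ¬ U' ≤ centralizer (U : Set G))
    {W : Subgroup G} (hWp : IsPGroup 2 W) (hWS : W ≤ normalizer (S : Set G))
    (hSW : S ≤ normalizer (W : Set G)) (hEW : E ≤ normalizer (W : Set G))
    (hEW' : E' ≤ normalizer (W : Set G))
    (hself : centralizer (W : Set G) ⊓ (E ⊔ E') ≤ W) : False := by
  have hcap : ∀ {E₀ U₀ : Subgroup G}, Piece S E₀ U₀ q → E₀ ≤ normalizer (W : Set G) →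
      ∀ s ∈ W ⊓ S, ∀ e ∈ E₀, ⁅e, s⁆ ∈ W ⊓ U₀ := by
    intro E₀ U₀ h₀ hn s hs e he
    have h1 : ⁅e, s⁆ ∈ W := by
      rw [commutatorElement_def]
      exact mul_mem ((mem_normalizer_iff.1 (hn he) s).1 hs.1) (inv_mem hs.1)
    have h2 : ⁅e, s⁆ ∈ E₀ := by
      rw [commutatorElement_def, mul_assoc, mul_assoc, ← mul_assoc s]
      exact mul_mem he ((mem_normalizer_iff.1 (h₀.S_normE hs.2) _).1 (inv_mem he))
    refine ⟨h1, h₀.radical (W ⊓ E₀) inf_le_right (hWp.to_le inf_le_left) (fun g hg => ?_) ⟨h1, h2⟩⟩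
    rw [mem_normalizer_iff]
    intro y
    rw [mem_inf, mem_inf]
    exact and_congr (mem_normalizer_iff.1 (hn hg) y) (mem_normalizer_iff.1 (le_normalizer hg) y)
  have hbig : ∀ {E₀ U₀ : Subgroup G}, Piece S E₀ U₀ q → E₀ ≤ normalizer (W : Set G) →
      ¬ W ⊓ U₀ ≤ centralizer (E₀ : Set G) → U₀ ≤ W := by
    intro E₀ U₀ h₀ hn hnc
    have hn' : E₀ ≤ normalizer ((W ⊓ U₀ : Subgroup G) : Set G) := fun g hg => by
      rw [mem_normalizer_iff]
      intro y
      rw [mem_inf, mem_inf]
      exact and_congr (mem_normalizer_iff.1 (hn hg) y) (mem_normalizer_iff.1 (h₀.E_normU hg) y)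
    have hle := h₀.irr (W ⊓ U₀) inf_le_right hn' hnc
    have hsub : U₀ ⊓ centralizer (E₀ : Set G) ≤ normalizer ((W ⊓ U₀ : Subgroup G) : Set G) :=
      fun g hg => hn' (h₀.U_le_E hg.1)
    rw [← h₀.moved, commutator_le]
    intro u hu e he
    have hu' : u ∈ (↑((W ⊓ U₀) ⊔ (U₀ ⊓ centralizer (E₀ : Set G))) : Set G) := hle hu
    rw [coe_mul_of_right_le_normalizer_left _ _ hsub] at hu'
    obtain ⟨m, hm, z, hz, rfl⟩ := hu'
    have hze : e * z = z * e := mem_centralizer_iff.1 hz.2 e he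
    have e1 : ⁅m * z, e⁆ = m * (e * m⁻¹ * e⁻¹) := by
      calc ⁅m * z, e⁆ = m * (z * e) * z⁻¹ * m⁻¹ * e⁻¹ := by rw [commutatorElement_def]; group
        _ = m * (e * m⁻¹ * e⁻¹) := by rw [← hze]; group
    rw [e1]
    exact mul_mem hm.1 ((mem_normalizer_iff.1 (hn he) _).1 (inv_mem hm.1))
  by_cases hZ : W ⊓ U ≤ centralizer (E : Set G)
  swap
  · have hUW := hbig h hEW hZ
    have hU'W : U' ≤ W := hbig h' hEW' fun hle =>
      h'.commutator_not_le h (not_le_symm hne) <| by
        rw [h'.commutator_eq h (not_le_symm hne)]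
        refine le_trans (le_inf ?_ ?_) hle
        · exact (commutator_mono (hEW'.trans' h'.U_le_E) hUW).trans
            (le_normalizer_iff_commutator_le_right.1 le_rfl)
        · exact (commutator_mono le_rfl (h.U_le_S.trans h'.S_normU)).trans
            (le_normalizer_iff_commutator_le_left.1 le_rfl)
    apply h.notle
    conv_lhs => rw [← h.comm_S]
    rw [commutator_le]
    intro e he s hs
    obtain ⟨w, hw, r, hr, rfl⟩ := (h'.pair_facts h (not_le_symm hne)).1 s hs
    have h1 : ⁅e, w⁆ ∈ U := (hcap h hEW w ⟨hU'W hw, h'.U_le_S hw⟩ e he).2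
    have h2 : ⁅e, r⁆ ∈ U := h.core r hr.1 hr.2 e he
    have e1 : ⁅e, w * r⁆ = ⁅e, w⁆ * (w * ⁅e, r⁆ * w⁻¹) := by
      simp only [commutatorElement_def]; group
    rw [e1]
    exact mul_mem h1 ((mem_normalizer_iff.1 (h.S_normU (h'.U_le_S hw)) _).1 h2)
  have hZ' : W ⊓ U' ≤ centralizer (E' : Set G) := by
    by_contra hc
    have hU'W := hbig h' hEW' hc
    refine h.commutator_not_le h' hne (le_trans ?_ hZ)
    rw [h.commutator_eq h' hne]
    refine le_inf ?_ ?_
    · exact (commutator_mono (hEW.trans' h.U_le_E) hU'W).trans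
        (le_normalizer_iff_commutator_le_right.1 le_rfl)
    · exact (commutator_mono le_rfl (h'.U_le_S.trans h.S_normU)).trans
        (le_normalizer_iff_commutator_le_left.1 le_rfl)
  have hWS1 : W ⊓ S ≤ centralizer (E : Set G) := fun s hs => h.centralizes fun e he =>
    ⟨(hcap h hEW s hs e he).2, hZ (hcap h hEW s hs e he)⟩
  have hWS2 : W ⊓ S ≤ centralizer (E' : Set G) := fun s hs => h'.centralizes fun e he =>
    ⟨(hcap h' hEW' s hs e he).2, hZ' (hcap h' hEW' s hs e he)⟩
  have hsub : ∀ {U₀ : Subgroup G}, U₀ ≤ S → ⁅W, U₀⁆ ≤ W ⊓ S := by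
    intro U₀ hU₀
    refine le_inf ?_ ?_
    · exact (commutator_mono le_rfl (hU₀.trans hSW)).trans (le_normalizer_iff_commutator_le_left.1 le_rfl)
    · exact (commutator_mono hWS hU₀).trans (le_normalizer_iff_commutator_le_right.1 le_rfl)
  have r1 : ⁅⁅W, U⁆, U'⁆ = ⊥ := by
    rw [commutator_eq_bot_iff_le_centralizer]
    exact ((hsub h.U_le_S).trans hWS2).trans (centralizer_le h'.U_le_E)
  have r2 : ⁅⁅U', W⁆, U⁆ = ⊥ := by
    rw [commutator_eq_bot_iff_le_centralizer, commutator_comm]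
    exact ((hsub h'.U_le_S).trans hWS1).trans (centralizer_le h.U_le_E)
  have r3 : ⁅⁅U, U'⁆, W⁆ = ⊥ := commutator_commutator_eq_bot_of_rotate r2 r1
  rw [commutator_eq_bot_iff_le_centralizer] at r3
  have hUU : ⁅U, U'⁆ ≤ U := (commutator_mono le_rfl (h'.U_le_S.trans h.S_normU)).trans
    (le_normalizer_iff_commutator_le_left.1 le_rfl)
  have hZW : ⁅U, U'⁆ ≤ W := (le_inf r3 (hUU.trans (h.U_le_E.trans le_sup_left))).trans hself
  exact h.commutator_not_le h' hne (h.commutator_eq h' hne ▸ (le_inf hZW hUU).trans hZ)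

end Piece

end Cfsg.Lib.PushUpOrbit
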