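import Cfsg.Agent.QTKE.PushUp.Abstract

/-!
The orbit of a piece under a group normalising the `2`-group: a common normalised subgroup.
-/

set_option autoImplicit false
set_option linter.unusedSectionVars false
set_option linter.style.haveILetI false

namespace Cfsg.Lib.PushUpOrbit

open Subgroup
open Cfsg.Lib.FFSLTwo
open Cfsg.Lib.FFModule (cj_one cj_mul conj_mem_cj cj_inj cj_bot cj_inv_cj)
open scoped commutatorElement

universe u

variable {G : Type u} [Group G]

theorem cj_commutator (g : G) (A B : Subgroup G) : cj g ⁅A, B⁆ = ⁅cj g A, cj g B⁆ := map_commutator _ _ _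

theorem cj_of_mem_normalizer {A : Subgroup G} {g : G} (hg : g ∈ normalizer (A : Set G)) : cj g A = A :=
  mem_normalizer_iff_map_conj_eq.1 hg

theorem le_centralizer_cj (g : G) {A B : Subgroup G} :
    cj g A ≤ centralizer (cj g B : Set G) ↔ A ≤ centralizer (B : Set G) := by
  constructor
  · intro h a ha
    exact (mem_centralizer_map (MulAut.conj g).injective B a).1 (h (mem_map_of_mem _ ha))
  · rintro h _ ⟨a, ha, rfl⟩
    exact (mem_centralizer_map (MulAut.conj g).injective B a).2 (h ha)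

theorem Piece.cj {S E U : Subgroup G} {q : ℕ} (h : Piece S E U q) {g : G} (hg : g ∈ normalizer (S : Set G)) :
    Piece S (FFSLTwo.cj g E) (FFSLTwo.cj g U) q := by
  have h1 := h.map (MulAut.conj g).toMonoidHom (MulAut.conj g).injective
  rwa [show S.map (MulAut.conj g).toMonoidHom = S from cj_of_mem_normalizer hg] at h1

theorem cj_le_orbit {M A : Subgroup G} {g : G} (hg : g ∈ M) [Finite G] : cj g A ≤ ⨆ x : M, cj (x : G) A :=
  le_iSup_of_le (⟨g, hg⟩ : M) le_rfl

theorem orbit_le_normalizer (M A : Subgroup G) [Finite G] :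
    M ≤ normalizer ((⨆ x : M, cj (x : G) A : Subgroup G) : Set G) := by
  have key : ∀ a ∈ M, cj a (⨆ x : M, cj (x : G) A) ≤ ⨆ x : M, cj (x : G) A := by
    intro a ha
    rw [show cj a (⨆ x : M, cj (x : G) A) = ⨆ x : M, cj a (cj (x : G) A) from Subgroup.map_iSup _ _]
    refine iSup_le fun x => ?_
    rw [cj_mul]
    exact cj_le_orbit (mul_mem ha x.2)
  intro a ha
  rw [mem_normalizer_iff]
  intro x
  refine ⟨fun hx => key a ha (conj_mem_cj hx), fun hx => ?_⟩
  simpa [mul_assoc] using key a⁻¹ (inv_mem ha) (conj_mem_cj hx)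

variable [Finite G] {T M₀ S E U : Subgroup G} {q : ℕ}

/-- the modules of the orbit of a piece commute, or a common local subgroup exists -/
theorem orbit_commute (hTM : T ≤ M₀) (hTp : IsPGroup 2 T) (hodd : ¬ 2 ∣ T.relIndex M₀) (hST : S ≤ T)
    (hM : M₀ ≤ normalizer (S : Set G)) (h : Piece S E U q)
    (hT : ∀ t ∈ T, cj t U ≤ centralizer (U : Set G))
    (hloc : ∀ Z₀ : Subgroup G, Z₀ ≠ ⊥ → Z₀ ≤ S → T ≤ normalizer (Z₀ : Set G) →
      ∃ W : Subgroup G, W ≤ T ∧ normalizer (Z₀ : Set G) ≤ normalizer (W : Set G) ∧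
        centralizer (W : Set G) ⊓ normalizer (Z₀ : Set G) ≤ W) :
    ∀ m ∈ M₀, cj m U ≤ centralizer (U : Set G) := by
  intro m hm
  by_contra hne
  have hp : ∀ g ∈ M₀, Piece S (cj g E) (cj g U) q := fun g hg => h.cj (hM hg)
  have hSc : ∀ g ∈ M₀, cj g S = S := fun g hg => cj_of_mem_normalizer (hM hg)
  set h' := hp m hm
  have hZeq : ⁅U, S⁆ = ⁅cj m U, S⁆ := h.commutator_eq' h' hne
  have hcjZ : ∀ g ∈ M₀, ⁅cj g U, S⁆ = cj g ⁅U, S⁆ := fun g hg => by rw [cj_commutator, hSc g hg]
  -- transitivity of `T`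
  have htr : ∀ g ∈ M₀, ∃ t ∈ T, cj (t * g) ⁅U, S⁆ = ⁅U, S⁆ := by
    intro g hg
    by_contra hno
    push Not at hno
    set Z₀ := ⨆ t : T, cj (t : G) (cj g ⁅U, S⁆)
    have hZS : ∀ k ∈ M₀, cj k ⁅U, S⁆ ≤ S := fun k hk => by
      exact (map_mono ((commutator_mono h.U_le_S le_rfl).trans (commutator_le_self S))).trans (hSc k hk).le
    have hcen : ∀ t : T, cj (t : G) (cj g ⁅U, S⁆) ≤ centralizer (E : Set G) ⊓ centralizer (cj m E : Set G) := by
      intro t
      rw [cj_mul]
      have hk : (t : G) * g ∈ M₀ := mul_mem (hTM t.2) hg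
      have hne' := hno t t.2
      rw [← hcjZ _ hk] at hne' ⊢
      refine h.third_central h' hne (hp _ hk) ?_ ?_
      · by_contra hc
        exact hne' (h.commutator_eq' (hp _ hk) hc).symm
      · by_contra hc
        exact hne' ((h'.commutator_eq' (hp _ hk) hc).symm.trans hZeq.symm)
    have hnorm : ∀ {E₀ : Subgroup G}, (∀ t : T, cj (t : G) (cj g ⁅U, S⁆) ≤ centralizer (E₀ : Set G)) →
        E₀ ≤ normalizer (Z₀ : Set G) := fun {E₀} hc =>
      (le_centralizer_iff.1 (iSup_le hc)).trans (centralizer_le_normalizer _)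
    have hTn : T ≤ normalizer (Z₀ : Set G) := orbit_le_normalizer T (cj g ⁅U, S⁆)
    have hne0 : Z₀ ≠ ⊥ := by
      intro h0
      have h1 : cj g ⁅U, S⁆ ≤ Z₀ := by
        have := cj_le_orbit (A := cj g ⁅U, S⁆) (one_mem T)
        rwa [cj_one] at this
      rw [h0, le_bot_iff] at h1
      exact h.commutator_not_le h' hne (by rw [cj_inj (h1.trans (cj_bot g).symm)]; exact bot_le)
    obtain ⟨W, hWT, hWn, hWc⟩ := hloc Z₀ hne0 (iSup_le fun t => (cj_mul _ _ _).le.trans (hZS _ (mul_mem (hTM t.2) hg))) hTn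
    have hE1 := hnorm fun t => (hcen t).trans inf_le_left
    have hE2 := hnorm fun t => (hcen t).trans inf_le_right
    exact h.no_common_local h' hne (hTp.to_le hWT) (hWT.trans (hTM.trans hM))
      ((hST.trans hTn).trans hWn) (hE1.trans hWn) (hE2.trans hWn)
      ((inf_le_inf_left _ (sup_le hE1 hE2)).trans hWc)
  -- the parity of the stabiliser of the commutator
  set St := M₀ ⊓ normalizer ((⁅U, S⁆ : Subgroup G) : Set G)
  have hone : ∀ g ∈ St, ∀ k ∈ St, ¬ cj g U ≤ centralizer (cj k U : Set G) → ∀ l ∈ St,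
      (cj l U ≤ centralizer (cj k U : Set G) ↔ ¬ cj l U ≤ centralizer (cj g U : Set G)) := by
    intro g hg k hk hgk l hl
    have hZ : ∀ x ∈ St, ⁅cj x U, S⁆ = ⁅U, S⁆ := fun x hx =>
      (hcjZ x hx.1).trans (cj_of_mem_normalizer hx.2)
    constructor
    · intro h1 h2
      refine (hp k hk.1).commutator_not_le (hp g hg.1) hgk ?_
      have := (hp k hk.1).third_central (hp g hg.1) hgk (hp l hl.1) h1 h2
      rw [hZ k hk, ← hZ l hl]
      exact this.trans inf_le_left
    · intro h1
      by_contra h2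
      exact (hp k hk.1).no_triangle (hp g hg.1) hgk (hp l hl.1) h2 h1
  have hmSt : m ∈ St := ⟨hm, mem_normalizer_iff_map_conj_eq.2 ((hcjZ m hm).symm.trans hZeq.symm)⟩
  have h1St : (1 : G) ∈ St := one_mem _
  let K : Subgroup G :=
    { carrier := {g | g ∈ St ∧ cj g U ≤ centralizer (U : Set G)}
      one_mem' := ⟨one_mem _, by rw [cj_one]; exact fun u hu => mem_centralizer_iff.2 fun v hv => h.comm v hv u hu⟩
      mul_mem' := by
        rintro a b ⟨ha, hac⟩ ⟨hb, hbc⟩
        refine ⟨mul_mem ha hb, ?_⟩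
        have hba : cj (a * b) U ≤ centralizer (cj a U : Set G) := by
          rw [← cj_mul]; exact (le_centralizer_cj a).2 hbc
        by_contra hc
        have := (hone (a * b) (mul_mem ha hb) 1 h1St (by rwa [cj_one]) a ha).1 (by rwa [cj_one])
        exact this (le_centralizer_iff.1 hba)
      inv_mem' := by
        rintro a ⟨ha, hac⟩
        refine ⟨inv_mem ha, le_centralizer_iff.1 ?_⟩
        have := (le_centralizer_cj a⁻¹).2 hac
        rwa [cj_inv_cj] at this }
  have hKSt : K ≤ St := fun g hg => hg.1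
  have hodd' : ∀ a ∈ St, ∀ b ∈ St, ¬ cj a U ≤ centralizer (U : Set G) → ¬ cj b U ≤ centralizer (U : Set G) →
      a * b ∈ K := by
    intro a ha b hb hac hbc
    refine ⟨mul_mem ha hb, ?_⟩
    have hba : ¬ cj (a * b) U ≤ centralizer (cj a U : Set G) := by
      rw [← cj_mul]; exact fun hc => hbc ((le_centralizer_cj a).1 hc)
    have := hone a ha 1 h1St (by rwa [cj_one]) (a * b) (mul_mem ha hb)
    rw [cj_one] at this
    exact this.2 hba
  have hindex : K.relIndex St ≤ 2 := by
    have hKm : m ∉ K := fun hk => hne hk.2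
    have h2 : (K.subgroupOf St).index = 2 := by
      rw [index_eq_two_iff]
      refine ⟨⟨m, hmSt⟩, fun b => ?_⟩
      simp only [mem_subgroupOf, Subgroup.coe_mul]
      by_cases hb : (b : G) ∈ K
      · refine Or.inr ⟨hb, fun hc => hKm ?_⟩
        simpa using mul_mem (inv_mem hb) hc
      · refine Or.inl ⟨hodd' b b.2 m hmSt (fun hc => hb ⟨b.2, hc⟩) hne, hb⟩
    exact h2.le
  have hK2 : K.relIndex St = 1 := by
    have hTK : T ⊓ St ≤ K := fun g hg => ⟨hg.2, hT g hg.1⟩
    -- `M₀ = T St`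
    have hcard : (T ⊓ St).relIndex St = T.relIndex M₀ := by
      rw [inf_relIndex_right]
      refine le_antisymm (relIndex_le_of_le_right (inf_le_left : St ≤ M₀) index_ne_zero_of_finite) ?_
      let f : ↥St ⧸ (T.subgroupOf St) → ↥M₀ ⧸ (T.subgroupOf M₀) :=
        Quotient.map' (fun x => ⟨x, x.2.1⟩) fun a b hab => by
          rw [QuotientGroup.leftRel_apply] at hab ⊢
          exact hab
      have hf : Function.Surjective f := by
        intro y
        induction y using QuotientGroup.induction_on with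
        | _ x =>
          obtain ⟨t, ht, htx⟩ := htr (x : G)⁻¹ (inv_mem x.2)
          have hmem : t * (x : G)⁻¹ ∈ St :=
            mem_inf.2 ⟨mul_mem (hTM ht) (inv_mem x.2), mem_normalizer_iff_map_conj_eq.2 htx⟩
          refine ⟨QuotientGroup.mk (⟨(t * (x : G)⁻¹)⁻¹, inv_mem hmem⟩ : ↥St), ?_⟩
          refine QuotientGroup.eq.2 ?_
          rw [mem_subgroupOf]
          simpa using ht
      exact Nat.card_le_card_of_surjective f hf
    have h3 := relIndex_mul_relIndex (T ⊓ St) K St hTK hKSt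
    rw [hcard] at h3
    rcases Nat.lt_or_ge (K.relIndex St) 2 with hlt | hge
    · have : K.relIndex St ≠ 0 := index_ne_zero_of_finite
      omega
    · exact absurd (Dvd.intro_left _ (by rw [← h3, le_antisymm hindex hge])) hodd
  exact hne (relIndex_eq_one.1 hK2 hmSt).2

/-- a subgroup normalised by `M₀` and by `E` -/
theorem exists_common (hTM : T ≤ M₀) (hTp : IsPGroup 2 T) (hodd : ¬ 2 ∣ T.relIndex M₀) (hST : S ≤ T)
    (hM : M₀ ≤ normalizer (S : Set G)) (h : Piece S E U q)
    (hT : ∀ t ∈ T, cj t U ≤ centralizer (U : Set G))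
    (hloc : ∀ Z₀ : Subgroup G, Z₀ ≠ ⊥ → Z₀ ≤ S → T ≤ normalizer (Z₀ : Set G) →
      ∃ W : Subgroup G, W ≤ T ∧ normalizer (Z₀ : Set G) ≤ normalizer (W : Set G) ∧
        centralizer (W : Set G) ⊓ normalizer (Z₀ : Set G) ≤ W) :
    ∃ V : Subgroup G, V ≠ ⊥ ∧ V ≤ S ∧ M₀ ⊔ E ≤ normalizer (V : Set G) := by
  have hcomm := orbit_commute hTM hTp hodd hST hM h hT hloc
  set V := ⨆ g : M₀, cj (g : G) U
  have hUV : U ≤ V := by
    have := le_iSup (fun g : M₀ => cj (g : G) U) 1
    rwa [OneMemClass.coe_one, cj_one] at this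
  refine ⟨V, fun h0 => h.notle ?_, iSup_le fun g => ?_, sup_le ?_ ?_⟩
  · have hU : U = ⊥ := le_bot_iff.1 (h0 ▸ hUV)
    conv_lhs => rw [← h.comm_S]
    rw [commutator_le]
    intro e he s hs
    exact h.core s hs (mem_centralizer_iff.2 fun u hu => by
      rw [hU] at hu; rw [mem_bot.1 hu, one_mul, mul_one]) e he
  · rw [← cj_of_mem_normalizer (hM g.2)]
    exact map_mono h.U_le_S
  · exact orbit_le_normalizer M₀ U
  · have hVS : V ≤ S := iSup_le fun g => by rw [← cj_of_mem_normalizer (hM g.2)]; exact map_mono h.U_le_S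
    have hVC : V ≤ centralizer (U : Set G) := iSup_le fun g => hcomm g g.2
    have key : ∀ e ∈ E, ∀ v ∈ V, e * v * e⁻¹ ∈ V := fun e he v hv => by
      have h1 : ⁅e, v⁆ ∈ V := hUV (h.core v (hVS hv) (hVC hv) e he)
      simpa [commutatorElement_def] using mul_mem h1 hv
    intro e he
    rw [mem_normalizer_iff]
    exact fun v => ⟨key e he v, fun hv => by simpa [mul_assoc] using key e⁻¹ (inv_mem he) _ hv⟩

end Cfsg.Lib.PushUpOrbit
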